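import Groth.Agent.PencilLib.CharZero.Systems
import Groth.Agent.OdpLib.Open
import Groth.Agent.PicProjLib.Chart

/-!
# Charts with coordinates for the generic pencil
-/

set_option autoImplicit false
set_option maxHeartbeats 1000000
set_option backward.isDefEq.respectTransparency false
set_option backward.isDefEq.respectTransparency.types false
set_option linter.style.haveILetI false
universe u
open CategoryTheory CategoryTheory.Limits AlgebraicGeometry TopologicalSpace IsLocalRing KaehlerDifferential Module Matrix TensorProduct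
open Groth.Agent.AmpleEmb Groth.Agent.BertiniProjLib Groth.Agent.LefDualLib

noncomputable section

namespace Groth.Agent.PencilLib.CharZero

variable {k : Type u} [Field k] {r d : ℕ} {X : Scheme.{u}} (ι : X ⟶ CohB1.ProjSpace r k) [IsClosedImmersion ι]

/-- The power of a coordinate. -/
def powForm (r d : ℕ) (j : Fin (r + 1)) : LefPen.Form r k d :=
  ⟨MvPolynomial.X j ^ d, (MvPolynomial.mem_homogeneousSubmodule _ _).2 (MvPolynomial.isHomogeneous_X_pow j d)⟩

theorem φ_powForm (j : Fin (r + 1)) : φ ι j (powForm (k := k) r d j) = 1 := by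
  show π ι j (PlaneTwistLib.chartEqn (powForm (k := k) r d j) j) = 1
  simp [powForm, PlaneTwistLib.chartEqn, PicProjLib.dehomVec]

theorem mem_U_of_powForm (hd : 1 ≤ d) (q : Spec (CommRingCat.of k) ⟶ X) (hq : q ≫ g0 ι = 𝟙 _) (j j' : Fin (r + 1))
    (h : q pt ∈ U ι j') (hne : pA ι q hq j' h (φ ι j' (powForm (k := k) r d j)) ≠ 0) : q pt ∈ U ι j := by
  rcases Fin.eq_self_or_eq_succAbove j' j with rfl | ⟨l, rfl⟩
  · exact h
  have e : φ ι j' (powForm (k := k) r d (j'.succAbove l)) = π ι j' (MvPolynomial.X l) ^ d := by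
    show π ι j' (PlaneTwistLib.chartEqn (powForm (k := k) r d (j'.succAbove l)) j') = _
    simp [powForm, PlaneTwistLib.chartEqn, PicProjLib.dehomVec]
  rw [e, map_pow] at hne
  have h1 : pval q (U ι j') h (π ι j' (MvPolynomial.X l)) ≠ 0 := fun h0 => hne (by
    rw [show pA ι q hq j' h (π ι j' (MvPolynomial.X l)) = 0 from h0, zero_pow (by omega)])
  have h2 := (pval_basicOpen q (U ι j') h _).2 h1
  have e2 : X.basicOpen (π ι j' (MvPolynomial.X l)) = ι ⁻¹ᵁ (stdOpen r k j' ⊓ stdOpen r k (j'.succAbove l)) := by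
    rw [← basicOpen_coordRatio, ← PicProjLib.chartEquiv_X, Scheme.preimage_basicOpen]
    rfl
  rw [e2] at h2
  exact h2.2

variable [IsAlgClosed k]

/-- Two rational points are told apart by a minor. -/
theorem exists_minor (hd : 1 ≤ d) {N : ℕ} (B : Basis (Fin N) k (LefPen.Form r k d))
    (q q' : Spec (CommRingCat.of k) ⟶ X) (hq : q ≫ g0 ι = 𝟙 _) (hq' : q' ≫ g0 ι = 𝟙 _) (j j' : Fin (r + 1))
    (h : q pt ∈ U ι j) (h' : q' pt ∈ U ι j') (hjj : q' pt ∈ U ι j → j' = j) (hne : q ≠ q') :
    ∃ a a', pA ι q hq j h (φ ι j (B a)) * pA ι q' hq' j' h' (φ ι j' (B a')) -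
      pA ι q hq j h (φ ι j (B a')) * pA ι q' hq' j' h' (φ ι j' (B a)) ≠ 0 := by
  by_contra! hcon
  let P : LefPen.Form r k d →ₗ[k] k := (pA ι q hq j h).toLinearMap.comp (φ ι j)
  let P' : LefPen.Form r k d →ₗ[k] k := (pA ι q' hq' j' h').toLinearMap.comp (φ ι j')
  have hbil : ∀ H H', P H * P' H' - P H' * P' H = 0 := by
    have h1 : ∀ a H', P (B a) * P' H' - P H' * P' (B a) = 0 := fun a H' => by
      have e : P (B a) • P' - P' (B a) • P = 0 := B.ext fun a' => by
        have := hcon a a'
        simp only [LinearMap.sub_apply, LinearMap.smul_apply, smul_eq_mul, LinearMap.zero_apply]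
        show P (B a) * P' (B a') - P' (B a) * P (B a') = 0
        rw [mul_comm (P' (B a))]
        exact this
      have := LinearMap.congr_fun e H'
      simp only [LinearMap.sub_apply, LinearMap.smul_apply, smul_eq_mul, LinearMap.zero_apply] at this
      rwa [mul_comm (P H')]
    intro H H'
    have e : P' H' • P - P H' • P' = 0 := B.ext fun a => by
      simp only [LinearMap.sub_apply, LinearMap.smul_apply, smul_eq_mul, LinearMap.zero_apply]
      rw [mul_comm (P' H')]
      exact h1 a H'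
    have := LinearMap.congr_fun e H
    simp only [LinearMap.sub_apply, LinearMap.smul_apply, smul_eq_mul, LinearMap.zero_apply] at this
    rwa [mul_comm (P H)]
  have hPE : P (powForm r d j) = 1 := by
    show pA ι q hq j h (φ ι j (powForm r d j)) = 1
    rw [φ_powForm, map_one]
  have hPE' : P' (powForm r d j') = 1 := by
    show pA ι q' hq' j' h' (φ ι j' (powForm r d j')) = 1
    rw [φ_powForm, map_one]
  by_cases hjeq : j' = j
  · subst hjeq
    obtain ⟨x, -, -, hxG, hx⟩ := exists_gens ι (d := d) hd j'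
    refine hne (OdpLib.eq_of_pA ι hq hq' j' h h' ?_)
    have e : (pA ι q hq j' h).comp (MvPolynomial.aeval x) = (pA ι q' hq' j' h').comp (MvPolynomial.aeval x) :=
      MvPolynomial.algHom_ext fun i => by
        obtain ⟨G, hG⟩ := hxG i
        have := hbil G (powForm r d j')
        rw [hPE, hPE', mul_one, one_mul, sub_eq_zero] at this
        simp only [AlgHom.comp_apply, MvPolynomial.aeval_X, ← hG]
        exact this
    exact AlgHom.ext fun t => by
      obtain ⟨s, rfl⟩ := hx t
      exact AlgHom.congr_fun e s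
  · have h0 : P' (powForm r d j) = 0 := by
      by_contra h0
      exact hjeq (hjj (mem_U_of_powForm ι hd q' hq' j j' h' h0))
    have := hbil (powForm r d j) (powForm r d j')
    rw [hPE, hPE', h0, mul_zero, sub_zero, mul_one] at this
    exact one_ne_zero this

variable (n : ℕ) [SmoothOfRelativeDimension (n + 1) (ι ≫ CohB1.ProjSpace.toSpec r k)] [IsIntegral X]
include n

/-- Finitely many pieces with coordinates cover a chart. -/
theorem exists_cover (hd : 1 ≤ d) (j : Fin (r + 1)) :
    ∃ s : Finset Γ(X, U ι j), (∀ g ∈ s, ∃ (z : Fin (n + 1) → Localization.Away g)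
        (b : Basis (Fin (n + 1)) (Localization.Away g) Ω[Localization.Away g⁄k]),
          ∀ l, b l = D k (Localization.Away g) (z l)) ∧
      ∀ p : Γ(X, U ι j) →ₐ[k] k, ∃ g ∈ s, p g ≠ 0 := by
  classical
  let G : Set Γ(X, U ι j) := {g | ∃ (z : Fin (n + 1) → Localization.Away g)
    (b : Basis (Fin (n + 1)) (Localization.Away g) Ω[Localization.Away g⁄k]),
      ∀ l, b l = D k (Localization.Away g) (z l)}
  haveI := smooth_chartRing ι (n + 1) j
  obtain ⟨x, -, -, -, hx⟩ := exists_gens ι (d := d) hd j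
  haveI : Algebra.FiniteType k Γ(X, U ι j) := Algebra.FiniteType.of_surjective _ hx
  have htop : Ideal.span G = ⊤ := by
    by_contra hne
    obtain ⟨m, hm, hle⟩ := Ideal.exists_le_maximal _ hne
    obtain ⟨p, hp⟩ := exists_algHom_of_isMaximal (k := k) m
    obtain ⟨q, hq, h, rfl⟩ := exists_point ι j p
    obtain ⟨-, -, -, ψ, h1, h2⟩ := OdpLib.chart_data ι n hd j q hq h
    obtain ⟨g, hg, z, b, hb⟩ := OdpLib.exists_local_coords x hx (hdim_chart ι (n + 1) j) _ ψ h1 h2
    exact hg (RingHom.mem_ker.1 (hp.ge (hle (Ideal.subset_span ⟨z, b, hb⟩))))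
  obtain ⟨s, hsG, hs⟩ := Submodule.mem_span_finite_of_mem_span (R := Γ(X, U ι j)) (S := G)
    (show (1 : Γ(X, U ι j)) ∈ Ideal.span G by rw [htop]; trivial)
  refine ⟨s, fun g hg => hsG hg, fun p => by_contra fun hcon => ?_⟩
  push Not at hcon
  have hle : Ideal.span (s : Set Γ(X, U ι j)) ≤ RingHom.ker p := Ideal.span_le.2 fun g hg => RingHom.mem_ker.2 (hcon g hg)
  exact one_ne_zero ((map_one p).symm.trans (RingHom.mem_ker.1 (hle hs)))

omit [IsAlgClosed k] n [SmoothOfRelativeDimension (n + 1) (ι ≫ CohB1.ProjSpace.toSpec r k)] [IsIntegral X] in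
/-- The forms generate all derivations of a piece of a chart. -/
theorem hgen_away (hd : 1 ≤ d) (j : Fin (r + 1)) (gA : Γ(X, U ι j)) {n : ℕ} (z : Fin n → Localization.Away gA)
    (b : Basis (Fin n) (Localization.Away gA) Ω[Localization.Away gA⁄k])
    (hb : ∀ l, b l = D k (Localization.Away gA) (z l)) {N : ℕ} (B : Basis (Fin N) k (LefPen.Form r k d))
    (L : Type u) [Field L] [Algebra k L] (χ : Localization.Away gA →ₐ[k] L) (v : Fin n → L)
    (h : ∀ a, ∑ l, v l * χ (OdpLib.pd b l (algebraMap Γ(X, U ι j) (Localization.Away gA) (φ ι j (B a)))) = 0) :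
    v = 0 := by
  classical
  let δ : Localization.Away gA →ₗ[k] L :=
    { toFun := fun t => ∑ l, v l * χ (OdpLib.pd b l t)
      map_add' := fun s t => by simp only [map_add, mul_add, Finset.sum_add_distrib]
      map_smul' := fun c t => by
        simp only [Derivation.map_smul, map_smul, RingHom.id_apply, Finset.smul_sum, mul_smul_comm] }
  have hmul : ∀ s t, δ (s * t) = χ s * δ t + χ t * δ s := fun s t => by
    show ∑ l, v l * χ (OdpLib.pd b l (s * t)) = χ s * (∑ l, v l * χ (OdpLib.pd b l t)) +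
      χ t * ∑ l, v l * χ (OdpLib.pd b l s)
    simp only [Derivation.leibniz, smul_eq_mul, map_add, map_mul, mul_add, Finset.sum_add_distrib, Finset.mul_sum]
    congr 1 <;> exact Finset.sum_congr rfl fun l _ => by ring
  obtain ⟨x, -, -, hxG, hx⟩ := exists_gens ι (d := d) hd j
  let AM := algebraMap Γ(X, U ι j) (Localization.Away gA)
  have hk : ∀ c : k, AM (algebraMap k _ c) = algebraMap k (Localization.Away gA) c := fun c =>
    (IsScalarTower.algebraMap_apply k Γ(X, U ι j) (Localization.Away gA) c).symm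
  have hAM : ∀ a, δ (AM a) = 0 := by
    intro a
    obtain ⟨P, rfl⟩ := hx a
    induction P using MvPolynomial.induction_on with
    | C c =>
      rw [MvPolynomial.aeval_C, hk]
      show ∑ l, v l * χ (OdpLib.pd b l (algebraMap k (Localization.Away gA) c)) = 0
      exact Finset.sum_eq_zero fun l _ => by rw [Derivation.map_algebraMap, map_zero, mul_zero]
    | add P Q hP hQ => rw [map_add, map_add, map_add, hP, hQ, add_zero]
    | mul_X P i hP =>
      obtain ⟨G, hG⟩ := hxG i
      rw [map_mul, map_mul, hmul, hP, mul_zero, add_zero, MvPolynomial.aeval_X, ← hG]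
      have e : AM (φ ι j G) = ∑ a, B.equivFun G a • AM (φ ι j (B a)) := by
        conv_lhs => rw [← B.sum_equivFun G, map_sum, map_sum]
        exact Finset.sum_congr rfl fun a _ => by
          rw [map_smul, Algebra.smul_def, map_mul, hk, ← Algebra.smul_def]
      rw [e, map_sum, Finset.sum_eq_zero (fun a _ => by
        rw [map_smul, show δ (AM (φ ι j (B a))) = 0 from h a, smul_zero]), mul_zero]
  have hall : ∀ t, δ t = 0 := by
    intro t
    obtain ⟨⟨a, ⟨g', m, rfl⟩⟩, ht⟩ := IsLocalization.surj (Submonoid.powers gA) t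
    have h1 : δ (t * AM (gA ^ m)) = 0 := by rw [show t * AM (gA ^ m) = AM a from ht]; exact hAM a
    rw [hmul, hAM, mul_zero, zero_add] at h1
    refine (mul_eq_zero.1 h1).resolve_left ?_
    rw [map_pow, map_pow]
    exact pow_ne_zero _ ((IsLocalization.Away.algebraMap_isUnit gA).map χ).ne_zero
  funext i
  have := hall (z i)
  have e : ∀ l, OdpLib.pd b l (z i) = if i = l then 1 else 0 := fun l => OdpLib.pd_z z b hb l i
  simpa [δ, e, apply_ite χ] using this

/-- A member singular at a point with invertible Hessian has an ordinary double point there. -/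
theorem good_of_hess (hd : 1 ≤ d) (j : Fin (r + 1)) (gA : Γ(X, U ι j)) (z : Fin (n + 1) → Localization.Away gA)
    (b : Basis (Fin (n + 1)) (Localization.Away gA) Ω[Localization.Away gA⁄k])
    (hb : ∀ l, b l = D k (Localization.Away gA) (z l)) (H : LefPen.Form r k d)
    (q : Spec (CommRingCat.of k) ⟶ X) (hq : q ≫ g0 ι = 𝟙 _) (h : q pt ∈ U ι j)
    (hs : Sing (pA ι q hq j h) (φ ι j H)) (p : Localization.Away gA →ₐ[k] k)
    (hp : ∀ a, p (algebraMap _ _ a) = pA ι q hq j h a)
    (hdet : Matrix.det (fun i l => p (OdpLib.pd b i (OdpLib.pd b l (algebraMap _ _ (φ ι j H))))) ≠ 0)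
    (hsing : IsSing b p (algebraMap _ _ (φ ι j H))) : OdpLib.Good ι n H q := by
  classical
  obtain ⟨x, -, -, -, hx⟩ := exists_gens ι (d := d) hd j
  haveI : Algebra.FiniteType k Γ(X, U ι j) := Algebra.FiniteType.of_surjective _ hx
  haveI : Algebra.FiniteType Γ(X, U ι j) (Localization.Away gA) :=
    haveI := IsLocalization.Away.finitePresentation (S := Localization.Away gA) gA; inferInstance
  haveI : Algebra.FiniteType k (Localization.Away gA) :=
    Algebra.FiniteType.trans (S := Γ(X, U ι j)) inferInstance inferInstance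
  obtain ⟨e, he1, he⟩ := OdpLib.exists_e z b hb
  obtain ⟨g, hg⟩ := OdpLib.exists_taylor z b hb he (algebraMap _ _ (φ ι j H))
  refine OdpLib.good_of_nd ι n j gA z b hb hd H q hq h hs p hp (he1 p) hg ?_
  intro u _ hu
  have eM : (g.map (OdpLib.ev p p) + (g.map (OdpLib.ev p p))ᵀ) =
      fun i l => p (OdpLib.pd b i (OdpLib.pd b l (algebraMap _ _ (φ ι j H)))) := by
    ext i l
    simp only [hess z b hb hg p (he1 p) hsing.1 hsing.2, Matrix.add_apply, Matrix.map_apply, Matrix.transpose_apply]
  rw [eM] at hu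
  exact Matrix.mulVec_injective_iff_isUnit.2 ((Matrix.isUnit_iff_isUnit_det _).2 (isUnit_iff_ne_zero.2 hdet))
    (by rw [hu, Matrix.mulVec_zero])

/-- One singular point, an ordinary double point. -/
theorem oneOrdQuad_of_unique (hd : 1 ≤ d) (G : LefPen.Form r k d) (hbad : Bad ι G)
    (hall : ∀ (q q' : Spec (CommRingCat.of k) ⟶ X) (hq : q ≫ g0 ι = 𝟙 _) (hq' : q' ≫ g0 ι = 𝟙 _)
      (j j' : Fin (r + 1)) (h : q pt ∈ U ι j) (h' : q' pt ∈ U ι j'),
      Sing (pA ι q hq j h) (φ ι j G) → Sing (pA ι q' hq' j' h') (φ ι j' G) → q = q' ∧ OdpLib.Good ι n G q) :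
    LefPen.OneOrdQuad k (n + 1) ι G := by
  obtain ⟨q, hq, j₁, h, hs⟩ := hbad
  obtain ⟨y, hy⟩ := (OdpLib.point_data ι G q hq j₁ h).1 hs.1
  obtain ⟨hns', hordG⟩ := (hall q q hq hq j₁ j₁ h h hs hs).2 y hy
  refine ⟨y, Set.ext fun y' => ⟨fun hy' he => hns' ((Set.mem_singleton_iff.1 he) ▸ hy'), fun hne => ?_⟩, hordG⟩
  by_contra hns''
  let g := LefPen.secToSpec ι ({G} : Set (LefPen.Form r k d))
  haveI : JacobsonSpace (LefPen.Sec ι ({G} : Set (LefPen.Form r k d))) := LocallyOfFiniteType.jacobsonSpace g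
  let F : Set (LefPen.Sec ι ({G} : Set (LefPen.Form r k d))) := (g.smoothLocus : Set _)ᶜ ∩ {y}ᶜ
  obtain ⟨y'', ⟨hy''1, hy''2⟩, hyc⟩ := nonempty_inter_closedPoints (Z := F) ⟨y', hns'', hne⟩
    (g.smoothLocus.isOpen.isClosed_compl.isLocallyClosed.inter hordG.1.isOpen_compl.isLocallyClosed)
  let s := pointOfClosedPoint g y'' hyc
  have hq' : (s ≫ LefPen.secι ι ({G} : Set (LefPen.Form r k d))) ≫ g0 ι = 𝟙 _ := by
    rw [Category.assoc]; exact pointOfClosedPoint_comp _ _ _
  have hy'' : LefPen.secι ι ({G} : Set (LefPen.Form r k d)) y'' = (s ≫ LefPen.secι ι ({G} : Set (LefPen.Form r k d))) pt := by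
    show _ = LefPen.secι ι _ (s pt)
    rw [pointOfClosedPoint_apply]
  obtain ⟨j', h'⟩ := exists_mem_U ι ((s ≫ LefPen.secι ι ({G} : Set (LefPen.Form r k d))) pt)
  have hs' : Sing (pA ι _ hq' j' h') (φ ι j' G) :=
    by_contra fun hs' => hy''1 (OdpLib.smoothAt_of_not_sing ι n hd G _ hq' j' h' y'' hy'' hs')
  have he := (hall _ _ hq hq' j₁ j' h h' hs hs').1
  refine hy''2 ((LefPen.secι ι ({G} : Set (LefPen.Form r k d))).isClosedEmbedding.injective ?_)
  rw [hy'', ← he]; exact hy.symm

end Groth.Agent.PencilLib.CharZero
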