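import Groth.Agent.PencilLib.CharZero.Charts
import Groth.Agent.PencilLib.Main
import Groth.Agent.PencilLib.BaseGen
import Groth.Agent.S4026

/-!
# In characteristic zero every embedding is a Lefschetz embedding
-/

set_option autoImplicit false
set_option maxHeartbeats 1000000
set_option backward.isDefEq.respectTransparency false
set_option backward.isDefEq.respectTransparency.types false
set_option linter.style.haveILetI false
universe u
open CategoryTheory CategoryTheory.Limits AlgebraicGeometry TopologicalSpace IsLocalRing KaehlerDifferential Module Matrix TensorProduct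
open Groth.Agent.AmpleEmb Groth.Agent.BertiniProjLib Groth.Agent.LefDualLib

noncomputable section

namespace Groth.Agent.PencilLib.CharZero

variable {k : Type u} [Field k] [IsAlgClosed k]

theorem exists_eval_ne_zero {N : ℕ} {P : MvPolynomial (Fin N) k} (hP : P ≠ 0) :
    ∃ a : Fin N → k, MvPolynomial.eval a P ≠ 0 := by
  haveI : Infinite k := IsAlgClosed.instInfinite
  by_contra! h
  exact hP (MvPolynomial.funext fun a => by rw [h a, map_zero])

variable {r d : ℕ} {X : Scheme.{u}} (ι : X ⟶ CohB1.ProjSpace r k) [IsClosedImmersion ι]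
  (n : ℕ) [SmoothOfRelativeDimension (n + 1) (ι ≫ CohB1.ProjSpace.toSpec r k)] [IsIntegral X]
include ι n

theorem exists_indep (hd : 1 ≤ d) : ∃ F G : LefPen.Form r k d, LinearIndependent k ![F, G] := by
  obtain ⟨x₀⟩ : Nonempty X := inferInstance
  obtain ⟨j, hj⟩ := exists_mem_U ι x₀
  haveI : Nonempty (U ι j) := ⟨⟨x₀, hj⟩⟩
  obtain ⟨x, E, hE, hxG, hx⟩ := exists_gens ι (d := d) hd j
  by_contra! hcon
  have hE0 : E ≠ 0 := fun h => one_ne_zero (α := Γ(X, U ι j)) (by rw [← hE, h, map_zero])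
  have hline : ∀ G, ∃ c : k, c • E = G := fun G => by
    by_contra hne'
    exact hcon E G ((LinearIndependent.pair_iff' hE0).2 fun c hc => hne' ⟨c, hc⟩)
  have hsurj : Function.Surjective (algebraMap k Γ(X, U ι j)) := by
    intro a
    obtain ⟨P, rfl⟩ := hx a
    induction P using MvPolynomial.induction_on with
    | C c => exact ⟨c, (MvPolynomial.aeval_C x c).symm⟩
    | add P Q hP hQ =>
      obtain ⟨a, ha⟩ := hP
      obtain ⟨b, hb⟩ := hQ
      exact ⟨a + b, by rw [map_add, map_add, ha, hb]⟩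
    | mul_X P i hP =>
      obtain ⟨a, ha⟩ := hP
      obtain ⟨G, hG⟩ := hxG i
      obtain ⟨c, rfl⟩ := hline G
      rw [map_smul, hE, ← Algebra.algebraMap_eq_smul_one] at hG
      exact ⟨a * c, by rw [map_mul, map_mul, ha, hG, MvPolynomial.aeval_X]⟩
  have hfield : IsField Γ(X, U ι j) :=
    MulEquiv.isField (Field.toIsField k)
      (RingEquiv.ofBijective (algebraMap k Γ(X, U ι j)) ⟨(algebraMap k Γ(X, U ι j)).injective, hsurj⟩).symm.toMulEquiv
  have hbot : (⊥ : Ideal Γ(X, U ι j)) ∈ minimalPrimes Γ(X, U ι j) := by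
    rw [IsDomain.minimalPrimes_eq_singleton_bot]; rfl
  have := hdim_chart ι (n + 1) j ⊥ hbot
  rw [ringKrullDim_eq_of_ringEquiv (RingEquiv.quotientBot _), ringKrullDim_eq_zero_of_isField hfield] at this
  have h2 : (n + 1 : ℕ) = 0 := by exact_mod_cast this.symm
  omega

theorem isLefschetzEmb_of_charZero [CharZero k] (hd : 1 ≤ d) : LefPen.IsLefschetzEmb k (n + 1) ι d := by
  classical
  haveI : Infinite k := IsAlgClosed.instInfinite
  have hiff := not_transversal_iff (d := d) ι (n + 1) (by omega) hd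
  let B := Module.finBasis k (LefPen.Form r k d)
  let N := Module.finrank k (LefPen.Form r k d)
  let Bp : Basis (Fin (N + N)) k (LefPen.Form r k d × LefPen.Form r k d) := (B.prod B).reindex finSumFinEquiv
  have hBp : ∀ F G, (fun i => Bp.equivFun (F, G) (finSumFinEquiv i)) = Sum.elim (B.equivFun F) (B.equivFun G) := by
    intro F G
    funext i
    simp only [Bp, Basis.equivFun_apply, Basis.repr_reindex_apply]
    rw [show finSumFinEquiv.symm (finSumFinEquiv i) = i from Equiv.symm_apply_apply _ _]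
    rcases i with a | a
    · exact Basis.prod_repr_inl B B (F, G) a
    · exact Basis.prod_repr_inr B B (F, G) a
  -- the pieces with coordinates
  choose s hs hscov using fun j => exists_cover ι n hd j
  let P := Σ j : Fin (r + 1), { g // g ∈ s j }
  let T : P → Type u := fun P => Localization.Away P.2.1
  choose z b hb using fun P : P => hs P.1 P.2.1 P.2.2
  haveI : ∀ j, Algebra.FiniteType k Γ(X, U ι j) := fun j => by
    obtain ⟨x, -, -, -, hx⟩ := exists_gens ι (d := d) hd j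
    exact Algebra.FiniteType.of_surjective _ hx
  haveI hft : ∀ P : P, Algebra.FiniteType k (T P) := fun P => by
    haveI : Algebra.FiniteType Γ(X, U ι P.1) (T P) :=
      haveI := IsLocalization.Away.finitePresentation (S := T P) P.2.1; inferInstance
    exact Algebra.FiniteType.trans (S := Γ(X, U ι P.1)) inferInstance inferInstance
  let Φ : ∀ P : P, Fin N → T P := fun P a => algebraMap Γ(X, U ι P.1) (T P) (φ ι P.1 (B a))
  have hΦ : ∀ (P : P) (H : LefPen.Form r k d),
      algebraMap Γ(X, U ι P.1) (T P) (φ ι P.1 H) = ∑ a, B.equivFun H a • Φ P a := fun P H => by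
    conv_lhs => rw [← B.sum_equivFun H, map_sum, map_sum]
    exact Finset.sum_congr rfl fun a _ => by
      rw [map_smul, Algebra.smul_def, map_mul, ← IsScalarTower.algebraMap_apply, ← Algebra.smul_def]
  have he : ∀ P : P, ∑ a, B.equivFun (powForm r d P.1) a • Φ P a = 1 := fun P => by
    rw [← hΦ, φ_powForm, map_one]
  choose g₁ hg₁0 hg₁ using fun P : P => exists_poly_degenerate (z P) (b P) (hb P) (Φ P)
    (fun a => B.equivFun (powForm r d P.1) a) (he P)
    (fun L _ _ χ v h => hgen_away ι hd P.1 P.2.1 (z P) (b P) (hb P) B L χ v h)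
  choose g₂ hg₂0 hg₂ using fun I : P × P × Fin N × Fin N => exists_poly_two (z I.1) (b I.1) (hb I.1)
    (z I.2.1) (b I.2.1) (hb I.2.1) (Φ I.1) (Φ I.2.1) I.2.2.1 I.2.2.2
  let Q : MvPolynomial (Fin N ⊕ Fin N) k := (∏ P, g₁ P) * ∏ I, g₂ I
  have hQ : Q ≠ 0 := mul_ne_zero (Finset.prod_ne_zero_iff.2 fun P _ => hg₁0 P)
    (Finset.prod_ne_zero_iff.2 fun I _ => hg₂0 I)
  -- members
  have hmemb : ∀ F G, MvPolynomial.eval (Sum.elim (B.equivFun F) (B.equivFun G)) Q ≠ 0 → ∀ c : k,
      Bad ι (F + c • G) → LefPen.OneOrdQuad k (n + 1) ι (F + c • G) := by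
    intro F G hFG c hbad
    simp only [Q, map_mul, map_prod, mul_ne_zero_iff, Finset.prod_ne_zero_iff, Finset.mem_univ, true_implies] at hFG
    obtain ⟨hq1, hq2⟩ := hFG
    have hcomb : ∀ P : P, algebraMap Γ(X, U ι P.1) (T P) (φ ι P.1 (F + c • G)) =
        comb (Φ P) (B.equivFun F) (B.equivFun G) c := fun P => by
      rw [hΦ]
      simp only [comb, map_add, map_smul, Pi.add_apply, Pi.smul_apply, smul_eq_mul]
      rfl
    have hloc : ∀ (q : Spec (CommRingCat.of k) ⟶ X) (hq : q ≫ g0 ι = 𝟙 _) (j : Fin (r + 1)) (h : q pt ∈ U ι j),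
        Sing (pA ι q hq j h) (φ ι j (F + c • G)) →
        ∃ (g : { g // g ∈ s j }) (p : T ⟨j, g⟩ →ₐ[k] k), (∀ a, p (algebraMap _ _ a) = pA ι q hq j h a) ∧
          IsSing (b ⟨j, g⟩) p (comb (Φ ⟨j, g⟩) (B.equivFun F) (B.equivFun G) c) := by
      intro q hq j h hsing
      haveI := smooth_chartRing ι (n + 1) j
      obtain ⟨g, hg, hgne⟩ := hscov j (pA ι q hq j h)
      obtain ⟨p, hp, hps, -⟩ := OdpLib.exists_extend (n := n + 1) (T := T ⟨j, ⟨g, hg⟩⟩) g (pA ι q hq j h) hgne
      refine ⟨⟨g, hg⟩, p, hp, ?_⟩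
      rw [← hcomb]
      exact (OdpLib.sing_iff_pd (b ⟨j, ⟨g, hg⟩⟩) p _).1 (hps _ hsing)
    refine oneOrdQuad_of_unique ι n hd _ hbad fun q q' hq hq' j j' h h' hsq hsq' => ⟨?_, ?_⟩
    · by_contra hne
      obtain ⟨j'', h'', hjj⟩ : ∃ j'', ∃ _ : q' pt ∈ U ι j'', q' pt ∈ U ι j → j'' = j := by
        by_cases hin : q' pt ∈ U ι j
        · exact ⟨j, hin, fun _ => rfl⟩
        · exact ⟨j', h', fun h => absurd h hin⟩
      haveI := smooth_chartRing ι (n + 1) j'
      have hsq'' := sing_chart ι (F + c • G) q' hq' j' j'' h' h'' hsq'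
      obtain ⟨g, p, hp, hps⟩ := hloc q hq j h hsq
      obtain ⟨g', p', hp', hps'⟩ := hloc q' hq' j'' h'' hsq''
      obtain ⟨a, a', ha⟩ := exists_minor ι hd B q q' hq hq' j j'' h h'' hjj hne
      refine ha ?_
      have := hg₂ (⟨j, g⟩, ⟨j'', g'⟩, a, a') _ _ (hq2 _) p p' c hps hps'
      rw [show p (Φ ⟨j, g⟩ a) = _ from hp _, show p (Φ ⟨j, g⟩ a') = _ from hp _,
        show p' (Φ ⟨j'', g'⟩ a') = _ from hp' _, show p' (Φ ⟨j'', g'⟩ a) = _ from hp' _] at this
      exact this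
    · obtain ⟨g, p, hp, hps⟩ := hloc q hq j h hsq
      refine good_of_hess ι n hd j g.1 (z ⟨j, g⟩) (b ⟨j, g⟩) (hb ⟨j, g⟩) _ q hq h hsq p hp ?_ ?_
      · have := hg₁ ⟨j, g⟩ _ _ (hq1 _) p c hps
        rw [← hcomb] at this
        exact this
      · rw [hcomb ⟨j, g⟩]
        exact hps
  -- a base pencil
  obtain ⟨F₀, G₀, hli⟩ := exists_indep ι n (d := d) hd
  obtain ⟨h₁, hh₁, hh₁v, hh₁S⟩ := exists_indep_poly F₀ G₀ hli
  obtain ⟨f₀, hf₀, ⟨H₀, hH₀⟩, hf₀S⟩ := S4026.result k r (n + 1) (by omega) ι d hd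
  have hH₀t : LefPen.Transversal k (n + 1) 1 (LefPen.secToSpec ι ({H₀} : Set (LefPen.Form r k d))) := hf₀S H₀ hH₀
  obtain ⟨Pb, hPb, hPbS⟩ := exists_base_poly ι (n + 1) (by omega) hd H₀ hH₀t B
  obtain ⟨a₂, ha₂⟩ := exists_eval_ne_zero hPb
  have hnb2 : ¬ Bad2 ι H₀ (B.equivFun.symm a₂) := hPbS _ (by rwa [LinearEquiv.apply_symm_apply])
  obtain ⟨h₂, hh₂, hh₂v, hh₂S⟩ := exists_avoid₂ ι (n + 1) hd H₀ _ hnb2
  obtain ⟨P₁, hP₁⟩ := exists_poly_of_isPolyFun Bp hh₁
  obtain ⟨P₂, hP₂⟩ := exists_poly_of_isPolyFun Bp hh₂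
  obtain ⟨P₀, hP₀⟩ := exists_poly_of_isPolyFun B hf₀
  let PF : MvPolynomial (Fin (N + N)) k := MvPolynomial.rename (fun a => finSumFinEquiv (Sum.inl a)) P₀
  let PG : MvPolynomial (Fin (N + N)) k := MvPolynomial.rename (fun a => finSumFinEquiv (Sum.inr a)) P₀
  have hcoordF : ∀ F G, (fun a => Bp.equivFun (F, G) (finSumFinEquiv (Sum.inl a))) = B.equivFun F :=
    fun F G => funext fun a => congrFun (hBp F G) (Sum.inl a)
  have hcoordG : ∀ F G, (fun a => Bp.equivFun (F, G) (finSumFinEquiv (Sum.inr a))) = B.equivFun G :=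
    fun F G => funext fun a => congrFun (hBp F G) (Sum.inr a)
  have hP0ne : P₀ ≠ 0 := fun h => hH₀ ((hP₀ H₀).trans (by rw [h, map_zero]))
  have hne : P₁ * P₂ * PF * PG * MvPolynomial.rename finSumFinEquiv Q ≠ 0 := by
    refine mul_ne_zero (mul_ne_zero (mul_ne_zero (mul_ne_zero ?_ ?_) ?_) ?_) ?_
    · exact fun h => hh₁v ((hP₁ _).trans (by rw [h, map_zero]))
    · exact fun h => hh₂v ((hP₂ _).trans (by rw [h, map_zero]))
    · exact fun h => hP0ne (MvPolynomial.rename_injective _ (finSumFinEquiv.injective.comp Sum.inl_injective) (h.trans (map_zero _).symm))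
    · exact fun h => hP0ne (MvPolynomial.rename_injective _ (finSumFinEquiv.injective.comp Sum.inr_injective) (h.trans (map_zero _).symm))
    · exact fun h => hQ (MvPolynomial.rename_injective _ finSumFinEquiv.injective (h.trans (map_zero _).symm))
  obtain ⟨w, hw⟩ := exists_eval_ne_zero hne
  refine ⟨fun FG => MvPolynomial.eval (Bp.equivFun FG) (P₁ * P₂ * PF * PG * MvPolynomial.rename finSumFinEquiv Q),
    S4026.isPolyFun_eval Bp.equivFun.toLinearMap _, ⟨Bp.equivFun.symm w, by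
      show MvPolynomial.eval (Bp.equivFun (Bp.equivFun.symm w)) _ ≠ 0
      rwa [LinearEquiv.apply_symm_apply]⟩, ?_⟩
  rintro ⟨F, G⟩ hFG
  simp only [map_mul, mul_ne_zero_iff, PF, PG, MvPolynomial.eval_rename, Function.comp_def, hcoordF, hcoordG, hBp,
    ← hP₁, ← hP₂, ← hP₀] at hFG
  obtain ⟨⟨⟨⟨e1, e2⟩, e3⟩, e4⟩, e5⟩ := hFG
  replace e3 : f₀ F ≠ 0 := fun h0 => e3 ((hP₀ F).symm.trans h0)
  replace e4 : f₀ G ≠ 0 := fun h0 => e4 ((hP₀ G).symm.trans h0)
  show LefPen.IsLefschetzPencil k (n + 1) ι d F G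
  refine ⟨hh₁S F G e1, transversal₂_of_not_bad2 ι (n + 1) (by omega) hd F G (hh₂S F G e2), ?_, fun H hH hnt => ?_⟩
  · refine (finite_line_zero hf₀ F G 0 (by rwa [zero_smul, add_zero])).subset fun c hc => by_contra fun hne' => ?_
    exact hc (hf₀S _ hne')
  · rcases hH with hH | ⟨c, rfl⟩
    · exact absurd (hf₀S G e4) (by rw [Set.mem_singleton_iff.1 hH] at hnt; exact hnt)
    · exact hmemb F G e5 c ((hiff _).1 hnt)

end Groth.Agent.PencilLib.CharZero
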