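import Groth.Agent.PencilLib.CharZero.Deriv
import Mathlib.RingTheory.FiniteType

/-!
# The polynomial conditions on a pair of forms
-/

set_option autoImplicit false
set_option maxHeartbeats 1000000
set_option backward.isDefEq.respectTransparency false
set_option linter.style.haveILetI false
universe u
open TensorProduct KaehlerDifferential Module MvPolynomial

noncomputable section

namespace Groth.Agent.PencilLib.CharZero

variable {k : Type u} [Field k] {A : Type u} [CommRing A] [Algebra k A] {n N : ℕ}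
  (z : Fin n → A) (b : Basis (Fin n) A Ω[A⁄k])

/-- The combination of the `Φ`. -/
def comb (Φ : Fin N → A) (F G : Fin N → k) (c : k) : A := ∑ a, (F a + c * G a) • Φ a

/-- Singular at `p`, as a condition on the coordinates. -/
def IsSing (p : A →ₐ[k] k) (a : A) : Prop := p a = 0 ∧ ∀ l : Fin n, p (OdpLib.pd b l a) = 0

theorem pd_comb (Φ : Fin N → A) (F G : Fin N → k) (c : k) (l : Fin n) :
    OdpLib.pd b l (comb Φ F G c) = comb (fun a => OdpLib.pd b l (Φ a)) F G c := by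
  simp only [comb, map_sum, Derivation.map_smul]

theorem apply_comb (p : A →ₐ[k] k) (Φ : Fin N → A) (F G : Fin N → k) (c : k) :
    p (comb Φ F G c) = ∑ a, (F a + c * G a) * p (Φ a) := by
  simp only [comb, map_sum, map_smul, smul_eq_mul]

/-- A point over an extension from its coordinates. -/
theorem exists_chi {m : ℕ} (y : Fin m → A)
    (hy : Function.Surjective (MvPolynomial.aeval y : MvPolynomial (Fin m) k →ₐ[k] A))
    {L : Type u} [CommRing L] [Algebra k L] (x : Fin m → L)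
    (hx : ∀ f : MvPolynomial (Fin m) k, MvPolynomial.aeval y f = 0 → MvPolynomial.aeval x f = (0 : L)) :
    ∃ χ : A →ₐ[k] L, ∀ f : MvPolynomial (Fin m) k, χ (MvPolynomial.aeval y f) = MvPolynomial.aeval x f := by
  let ψ : MvPolynomial (Fin m) k →ₐ[k] A := MvPolynomial.aeval y
  let θ := Ideal.Quotient.liftₐ (RingHom.ker ψ) (MvPolynomial.aeval x) fun f hf => hx f hf
  let E := Ideal.quotientKerAlgEquivOfSurjective hy
  refine ⟨θ.comp E.symm.toAlgHom, fun f => ?_⟩
  have h : E (Ideal.Quotient.mk (RingHom.ker ψ) f) = ψ f := rfl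
  show θ (E.symm (ψ f)) = _
  rw [← h, AlgEquiv.symm_apply_apply]
  rfl

variable [CharZero k] [Algebra.FiniteType k A]

/-- A general pair has no degenerate singular point in the chart. -/
theorem exists_poly_degenerate (hb : ∀ l, b l = D k A (z l)) (Φ : Fin N → A) (e : Fin N → k)
    (he : ∑ a, e a • Φ a = 1)
    (hgen : ∀ (L : Type u) [Field L] [Algebra k L] (χ : A →ₐ[k] L) (v : Fin n → L),
      (∀ a, ∑ l, v l * χ (OdpLib.pd b l (Φ a)) = 0) → v = 0) :
    ∃ g : MvPolynomial (Fin N ⊕ Fin N) k, g ≠ 0 ∧ ∀ (F G : Fin N → k), eval (Sum.elim F G) g ≠ 0 →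
      ∀ (p : A →ₐ[k] k) (c : k), IsSing b p (comb Φ F G c) →
        Matrix.det (fun i l => p (OdpLib.pd b i (OdpLib.pd b l (comb Φ F G c)))) ≠ 0 := by
  classical
  obtain ⟨m, f, hf⟩ := Algebra.FiniteType.iff_quotient_mvPolynomial''.1 (inferInstance : Algebra.FiniteType k A)
  let y : Fin m → A := fun i => f (X i)
  have hy : Function.Surjective (MvPolynomial.aeval y : MvPolynomial (Fin m) k →ₐ[k] A) := by
    rwa [show MvPolynomial.aeval y = f from (MvPolynomial.aeval_unique f).symm]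
  choose lift hlift using hy
  let υ : (Fin m ⊕ Unit) ⊕ (Fin N ⊕ Fin N) → MvPolynomial ((Fin m ⊕ Unit) ⊕ (Fin N ⊕ Fin N)) k := X
  let Y : MvPolynomial (Fin m) k →ₐ[k] MvPolynomial ((Fin m ⊕ Unit) ⊕ (Fin N ⊕ Fin N)) k :=
    rename fun i => Sum.inl (Sum.inl i)
  let C' : Fin N → MvPolynomial ((Fin m ⊕ Unit) ⊕ (Fin N ⊕ Fin N)) k := fun a =>
    υ (Sum.inr (Sum.inl a)) + υ (Sum.inl (Sum.inr ())) * υ (Sum.inr (Sum.inr a))
  let P : (Fin N → A) → MvPolynomial ((Fin m ⊕ Unit) ⊕ (Fin N ⊕ Fin N)) k := fun Ψ => ∑ a, C' a * Y (lift (Ψ a))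
  let S : Set (MvPolynomial ((Fin m ⊕ Unit) ⊕ (Fin N ⊕ Fin N)) k) :=
    Y '' {f : MvPolynomial (Fin m) k | MvPolynomial.aeval y f = 0} ∪ {P Φ} ∪ Set.range (fun l => P fun a => OdpLib.pd b l (Φ a)) ∪
      {Matrix.det fun i l => P fun a => OdpLib.pd b i (OdpLib.pd b l (Φ a))}
  have hval : ∀ (L : Type u) [CommRing L] [Algebra k L] (x : Fin m ⊕ Unit → L) (w : Fin N ⊕ Fin N → L) (χ : A →ₐ[k] L),
      (∀ f : MvPolynomial (Fin m) k, χ (MvPolynomial.aeval y f) = MvPolynomial.aeval (fun i => x (Sum.inl i)) f) → ∀ Ψ : Fin N → A,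
        MvPolynomial.aeval (Sum.elim x w) (P Ψ) =
          ∑ a, (w (Sum.inl a) + x (Sum.inr ()) * w (Sum.inr a)) * χ (Ψ a) := by
    intro L _ _ x w χ hχ Ψ
    simp only [P, C', υ, map_sum, map_mul, map_add, aeval_X, Sum.elim_inl, Sum.elim_inr]
    refine Finset.sum_congr rfl fun a _ => ?_
    congr 1
    rw [← hlift (Ψ a), hχ, aeval_rename]
    simp only [hlift]
    rfl
  obtain ⟨g, hg0, hg⟩ := LinSecLib.exists_poly_no_solution (K := k) S (by
    intro L _ _ _ _ _ x hx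
    obtain ⟨χ, hχ⟩ := exists_chi y (fun a => ⟨lift a, hlift a⟩) (fun i => x (Sum.inl i)) fun f hf => by
      have := hx (Y f) (Or.inl (Or.inl (Or.inl ⟨f, hf, rfl⟩)))
      rwa [aeval_rename] at this
    let F : Fin N → L := fun a => algebraMap (MvPolynomial (Fin N ⊕ Fin N) k) L (X (Sum.inl a))
    let G : Fin N → L := fun a => algebraMap (MvPolynomial (Fin N ⊕ Fin N) k) L (X (Sum.inr a))
    choose Db hDb using fun i : Fin N ⊕ Fin N => LinSecLib.exists_derivation (K := k) (L := L) i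
    refine not_degenerate z b hb χ Φ e he (hgen L χ) (x (Sum.inr ())) F G (fun i => Db (Sum.inl i))
      (fun i a => ?_) (fun i a => ?_) ?_ (fun l => ?_) ?_
    · show Db (Sum.inl i) (algebraMap _ L (X (Sum.inl a))) = _
      rw [hDb]; simp
    · show Db (Sum.inl i) (algebraMap _ L (X (Sum.inr a))) = _
      rw [hDb]; simp
    · have := hx (P Φ) (Or.inl (Or.inl (Or.inr rfl)))
      rwa [hval L x _ χ hχ] at this
    · have := hx (P fun a => OdpLib.pd b l (Φ a)) (Or.inl (Or.inr ⟨l, rfl⟩))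
      rwa [hval L x _ χ hχ] at this
    · have := hx _ (Or.inr (rfl : _ = Matrix.det fun i l => P fun a => OdpLib.pd b i (OdpLib.pd b l (Φ a))))
      rw [AlgHom.map_det] at this
      rw [← this]
      congr 1
      ext i l
      exact (hval L x (fun i => algebraMap (MvPolynomial (Fin N ⊕ Fin N) k) L (X i)) χ hχ fun a => OdpLib.pd b i (OdpLib.pd b l (Φ a))).symm)
  refine ⟨g, hg0, fun F G hFG p c hs hdet => hg (Sum.elim F G) (Sum.elim (fun i => p (y i)) fun _ => c) hFG ?_⟩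
  have hp : ∀ f : MvPolynomial (Fin m) k, p (MvPolynomial.aeval y f) = MvPolynomial.aeval (fun i => p (y i)) f := fun f => by
    rw [← AlgHom.comp_apply, comp_aeval]
  intro q hq
  rw [← aeval_eq_eval]
  have hv := hval k (Sum.elim (fun i => p (y i)) fun _ => c) (Sum.elim F G) p hp
  rcases hq with ((⟨f, hf, rfl⟩ | rfl) | ⟨l, rfl⟩) | rfl
  · rw [aeval_rename]
    show MvPolynomial.aeval (fun i => p (y i)) f = 0
    rw [← hp, show MvPolynomial.aeval y f = 0 from hf, map_zero]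
  · rw [hv, ← hs.1, apply_comb]; rfl
  · rw [hv, ← hs.2 l, pd_comb, apply_comb]; rfl
  · rw [AlgHom.map_det, ← hdet]
    congr 1
    ext i l
    show MvPolynomial.aeval _ (P _) = _
    rw [hv, pd_comb, pd_comb, apply_comb]; rfl

/-- A general pair has no member singular at two points with independent coordinates. -/
theorem exists_poly_two (hb : ∀ l, b l = D k A (z l)) {A' : Type u} [CommRing A'] [Algebra k A']
    [Algebra.FiniteType k A'] (z' : Fin n → A') (b' : Basis (Fin n) A' Ω[A'⁄k]) (hb' : ∀ l, b' l = D k A' (z' l))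
    (Φ : Fin N → A) (Φ' : Fin N → A') (i₀ i₁ : Fin N) :
    ∃ g : MvPolynomial (Fin N ⊕ Fin N) k, g ≠ 0 ∧ ∀ (F G : Fin N → k), eval (Sum.elim F G) g ≠ 0 →
      ∀ (p : A →ₐ[k] k) (p' : A' →ₐ[k] k) (c : k), IsSing b p (comb Φ F G c) → IsSing b' p' (comb Φ' F G c) →
        p (Φ i₀) * p' (Φ' i₁) - p (Φ i₁) * p' (Φ' i₀) = 0 := by
  classical
  obtain ⟨m, f, hf⟩ := Algebra.FiniteType.iff_quotient_mvPolynomial''.1 (inferInstance : Algebra.FiniteType k A)
  obtain ⟨m', f', hf'⟩ := Algebra.FiniteType.iff_quotient_mvPolynomial''.1 (inferInstance : Algebra.FiniteType k A')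
  let y : Fin m → A := fun i => f (X i)
  let y' : Fin m' → A' := fun i => f' (X i)
  have hy : Function.Surjective (MvPolynomial.aeval y : MvPolynomial (Fin m) k →ₐ[k] A) := by
    rwa [show MvPolynomial.aeval y = f from (MvPolynomial.aeval_unique f).symm]
  have hy' : Function.Surjective (MvPolynomial.aeval y' : MvPolynomial (Fin m') k →ₐ[k] A') := by
    rwa [show MvPolynomial.aeval y' = f' from (MvPolynomial.aeval_unique f').symm]
  choose lift hlift using hy
  choose lift' hlift' using hy'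
  let τ := (Fin m ⊕ Fin m') ⊕ (Unit ⊕ Unit)
  let R := MvPolynomial (τ ⊕ (Fin N ⊕ Fin N)) k
  let Y : MvPolynomial (Fin m) k →ₐ[k] R := rename fun i => Sum.inl (Sum.inl (Sum.inl i))
  let Y' : MvPolynomial (Fin m') k →ₐ[k] R := rename fun i => Sum.inl (Sum.inl (Sum.inr i))
  let C' : Fin N → R := fun a =>
    X (Sum.inr (Sum.inl a)) + X (Sum.inl (Sum.inr (Sum.inl ()))) * X (Sum.inr (Sum.inr a))
  let P : (Fin N → A) → R := fun Ψ => ∑ a, C' a * Y (lift (Ψ a))
  let P' : (Fin N → A') → R := fun Ψ => ∑ a, C' a * Y' (lift' (Ψ a))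
  let M : R := X (Sum.inl (Sum.inr (Sum.inr ()))) *
    (Y (lift (Φ i₀)) * Y' (lift' (Φ' i₁)) - Y (lift (Φ i₁)) * Y' (lift' (Φ' i₀))) - 1
  let S : Set R := Y '' {f : MvPolynomial (Fin m) k | MvPolynomial.aeval y f = 0} ∪ Y' '' {f : MvPolynomial (Fin m') k | MvPolynomial.aeval y' f = 0} ∪
    ({P Φ, P' Φ', M} : Set R) ∪ Set.range (fun l => P fun a => OdpLib.pd b l (Φ a)) ∪
    Set.range (fun l => P' fun a => OdpLib.pd b' l (Φ' a))
  have hval : ∀ (L : Type u) [CommRing L] [Algebra k L] (x : τ → L) (w : Fin N ⊕ Fin N → L) (χ : A →ₐ[k] L)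
      (χ' : A' →ₐ[k] L),
      (∀ f : MvPolynomial (Fin m) k, χ (MvPolynomial.aeval y f) = MvPolynomial.aeval (fun i => x (Sum.inl (Sum.inl i))) f) →
      (∀ f : MvPolynomial (Fin m') k, χ' (MvPolynomial.aeval y' f) = MvPolynomial.aeval (fun i => x (Sum.inl (Sum.inr i))) f) →
        (∀ t, MvPolynomial.aeval (Sum.elim x w) (Y (lift t)) = χ t) ∧
        (∀ t, MvPolynomial.aeval (Sum.elim x w) (Y' (lift' t)) = χ' t) ∧
        (∀ Ψ, MvPolynomial.aeval (Sum.elim x w) (P Ψ) =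
          ∑ a, (w (Sum.inl a) + x (Sum.inr (Sum.inl ())) * w (Sum.inr a)) * χ (Ψ a)) ∧
        (∀ Ψ, MvPolynomial.aeval (Sum.elim x w) (P' Ψ) =
          ∑ a, (w (Sum.inl a) + x (Sum.inr (Sum.inl ())) * w (Sum.inr a)) * χ' (Ψ a)) := by
    intro L _ _ x w χ χ' hχ hχ'
    have h1 : ∀ t, MvPolynomial.aeval (Sum.elim x w) (Y (lift t)) = χ t := fun t => by
      conv_rhs => rw [← hlift t, hχ]
      rw [aeval_rename]; rfl
    have h2 : ∀ t, MvPolynomial.aeval (Sum.elim x w) (Y' (lift' t)) = χ' t := fun t => by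
      conv_rhs => rw [← hlift' t, hχ']
      rw [aeval_rename]; rfl
    refine ⟨h1, h2, fun Ψ => ?_, fun Ψ => ?_⟩
    · simp only [P, C', map_sum, map_mul, map_add, aeval_X, Sum.elim_inl, Sum.elim_inr, h1]
    · simp only [P', C', map_sum, map_mul, map_add, aeval_X, Sum.elim_inl, Sum.elim_inr, h2]
  obtain ⟨g, hg0, hg⟩ := LinSecLib.exists_poly_no_solution (K := k) S (by
    intro L _ _ _ _ _ x hx
    obtain ⟨χ, hχ⟩ := exists_chi y (fun a => ⟨lift a, hlift a⟩) (fun i => x (Sum.inl (Sum.inl i))) fun f hf => by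
      have := hx (Y f) (Or.inl (Or.inl (Or.inl (Or.inl ⟨f, hf, rfl⟩))))
      rwa [aeval_rename] at this
    obtain ⟨χ', hχ'⟩ := exists_chi y' (fun a => ⟨lift' a, hlift' a⟩) (fun i => x (Sum.inl (Sum.inr i))) fun f hf => by
      have := hx (Y' f) (Or.inl (Or.inl (Or.inl (Or.inr ⟨f, hf, rfl⟩))))
      rwa [aeval_rename] at this
    obtain ⟨v1, v1', v2, v2'⟩ := hval L x (fun i => algebraMap (MvPolynomial (Fin N ⊕ Fin N) k) L (X i)) χ χ' hχ hχ'
    let F : Fin N → L := fun a => algebraMap (MvPolynomial (Fin N ⊕ Fin N) k) L (X (Sum.inl a))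
    let G : Fin N → L := fun a => algebraMap (MvPolynomial (Fin N ⊕ Fin N) k) L (X (Sum.inr a))
    choose Db hDb using fun i : Fin N ⊕ Fin N => LinSecLib.exists_derivation (K := k) (L := L) i
    have h := proportional z b hb z' b' hb' χ χ' Φ Φ' (x (Sum.inr (Sum.inl ()))) F G (fun i => Db (Sum.inl i))
      (fun i a => by show Db (Sum.inl i) (algebraMap _ L (X (Sum.inl a))) = _; rw [hDb]; simp)
      (fun i a => by show Db (Sum.inl i) (algebraMap _ L (X (Sum.inr a))) = _; rw [hDb]; simp)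
      ((v2 Φ).symm.trans (hx _ (Or.inl (Or.inl (Or.inr (Or.inl rfl))))))
      (fun l => (v2 _).symm.trans (hx _ (Or.inl (Or.inr ⟨l, rfl⟩))))
      ((v2' Φ').symm.trans (hx _ (Or.inl (Or.inl (Or.inr (Or.inr (Or.inl rfl)))))))
      (fun l => (v2' _).symm.trans (hx _ (Or.inr ⟨l, rfl⟩))) i₀ i₁
    have hM := hx M (Or.inl (Or.inl (Or.inr (Or.inr (Or.inr rfl)))))
    simp only [M, map_sub, map_mul, map_one, aeval_X, Sum.elim_inl, v1, v1', h, mul_zero, zero_sub, neg_eq_zero,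
      one_ne_zero] at hM)
  refine ⟨g, hg0, fun F G hFG p p' c hs hs' => by_contra fun hne =>
    hg (Sum.elim F G) (Sum.elim (Sum.elim (fun i => p (y i)) fun i => p' (y' i))
      (Sum.elim (fun _ => c) fun _ => (p (Φ i₀) * p' (Φ' i₁) - p (Φ i₁) * p' (Φ' i₀))⁻¹)) hFG ?_⟩
  have hp : ∀ f : MvPolynomial (Fin m) k, p (MvPolynomial.aeval y f) = MvPolynomial.aeval (fun i => p (y i)) f := fun f => by
    rw [← AlgHom.comp_apply, comp_aeval]
  have hp' : ∀ f : MvPolynomial (Fin m') k, p' (MvPolynomial.aeval y' f) = MvPolynomial.aeval (fun i => p' (y' i)) f := fun f => by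
    rw [← AlgHom.comp_apply, comp_aeval]
  obtain ⟨v1, v1', v2, v2'⟩ := hval k (Sum.elim (Sum.elim (fun i => p (y i)) fun i => p' (y' i))
      (Sum.elim (fun _ => c) fun _ => (p (Φ i₀) * p' (Φ' i₁) - p (Φ i₁) * p' (Φ' i₀))⁻¹)) (Sum.elim F G) p p' hp hp'
  intro q hq
  rw [← aeval_eq_eval]
  rcases hq with (((⟨f, hf, rfl⟩ | ⟨f, hf, rfl⟩) | (rfl | rfl | rfl)) | ⟨l, rfl⟩) | ⟨l, rfl⟩
  · rw [aeval_rename]
    show MvPolynomial.aeval (fun i => p (y i)) f = 0
    rw [← hp, show MvPolynomial.aeval y f = 0 from hf, map_zero]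
  · rw [aeval_rename]
    show MvPolynomial.aeval (fun i => p' (y' i)) f = 0
    rw [← hp', show MvPolynomial.aeval y' f = 0 from hf, map_zero]
  · rw [v2, ← hs.1, apply_comb]; rfl
  · rw [v2', ← hs'.1, apply_comb]; rfl
  · simp only [M, map_sub, map_mul, map_one, aeval_X, Sum.elim_inl, Sum.elim_inr, v1, v1']
    rw [inv_mul_cancel₀ hne, sub_self]
  · rw [v2, ← hs.2 l, pd_comb, apply_comb]; rfl
  · rw [v2', ← hs'.2 l, pd_comb, apply_comb]; rfl

end Groth.Agent.PencilLib.CharZero
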