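import Groth.Agent.LinSecLib.Basic
import Groth.Agent.OdpLib.Taylor
import Mathlib.LinearAlgebra.Matrix.ToLin

/-!
# The generic pencil: differentiating along its coefficients
-/

set_option autoImplicit false
set_option maxHeartbeats 1000000
set_option backward.isDefEq.respectTransparency false
set_option linter.style.haveILetI false
universe u
open TensorProduct KaehlerDifferential Module

noncomputable section

namespace Groth.Agent.PencilLib.CharZero

variable {k : Type u} [Field k] {A : Type u} [CommRing A] [Algebra k A] {n : ℕ}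
  (z : Fin n → A) (b : Basis (Fin n) A Ω[A⁄k])

/-- The chain rule in a chart with coordinates. -/
theorem chain (hb : ∀ l, b l = D k A (z l)) {L : Type u} [Field L] [Algebra k L] (χ : A →ₐ[k] L)
    (D' : Derivation k L L) (t : A) :
    D' (χ t) = ∑ l, χ (OdpLib.pd b l t) * D' (χ (z l)) := by
  letI : Algebra A L := χ.toRingHom.toAlgebra
  haveI : IsScalarTower k A L := IsScalarTower.of_algebraMap_eq fun c => (χ.commutes c).symm
  let d : Derivation k A L := D'.compAlgebraMap A
  have hd : ∀ s, d s = D' (χ s) := fun s => rfl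
  rw [← hd, ← d.liftKaehlerDifferential_comp_D]
  conv_lhs => rw [← b.sum_repr (D k A t), map_sum]
  refine Finset.sum_congr rfl fun l _ => ?_
  rw [map_smul, hb, d.liftKaehlerDifferential_comp_D, hd, Algebra.smul_def]
  rfl

/-- At a singular point the second derivatives are the symmetrised quadratic part. -/
theorem hess (hb : ∀ l, b l = D k A (z l)) {e : A ⊗[k] A} {a : A} {g : Matrix (Fin n) (Fin n) (A ⊗[k] A)}
    (hg : OdpLib.IsTaylor z b e a g) (p : A →ₐ[k] k) (he : OdpLib.ev p p e = 1) (ha : p a = 0)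
    (hda : ∀ l, p (OdpLib.pd b l a) = 0) (i l : Fin n) :
    p (OdpLib.pd b i (OdpLib.pd b l a)) = OdpLib.ev p p (g i l) + OdpLib.ev p p (g l i) := by
  classical
  have h := congrArg (OdpLib.ev p p) (congrArg (OdpLib.pd2 b i) (congrArg (OdpLib.pd2 b l) hg))
  have h1 : ∀ (i : Fin n) (c : A), OdpLib.pd2 b i (c ⊗ₜ[k] (1 : A)) = 0 := fun i c => by simp [OdpLib.pd2]
  have h1' : ∀ i : Fin n, OdpLib.pd2 b i (1 : A ⊗[k] A) = 0 := fun i => h1 i 1
  have h2 : ∀ (i : Fin n) (c : A), OdpLib.pd2 b i ((1 : A) ⊗ₜ[k] c) = (1 : A) ⊗ₜ[k] OdpLib.pd b i c :=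
    fun i c => by simp [OdpLib.pd2]
  simp only [OdpLib.pd2_mul, map_add, map_sub, map_sum, map_mul, OdpLib.pd2_du z b hb, OdpLib.ev_du, h1, h1', h2,
    map_zero, sub_self, mul_zero, zero_mul, add_zero, zero_add, sub_zero, OdpLib.ev_tmul, map_one, ha, hda, he,
    one_mul, mul_one, apply_ite (OdpLib.pd2 b i), apply_ite (OdpLib.ev p p), ite_self, mul_ite,
    Finset.sum_const_zero, Finset.sum_add_distrib, Finset.sum_ite_eq', Finset.mem_univ, if_true,
    Finset.sum_ite_irrel] at h
  rw [h]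

variable {N : ℕ}

/-- The differentiated equations at a singular point of the generic member. -/
theorem key (hb : ∀ l, b l = D k A (z l)) {L : Type u} [Field L] [Algebra k L] (χ : A →ₐ[k] L) (Φ : Fin N → A)
    (c : L) (F G : Fin N → L) (Db : Fin N → Derivation k L L) (hF : ∀ i a, Db i (F a) = if a = i then 1 else 0)
    (hG : ∀ i a, Db i (G a) = 0) (h0 : ∑ a, (F a + c * G a) * χ (Φ a) = 0)
    (h1 : ∀ l, ∑ a, (F a + c * G a) * χ (OdpLib.pd b l (Φ a)) = 0) :
    (∀ i, χ (Φ i) + Db i c * ∑ a, G a * χ (Φ a) = 0) ∧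
      ∀ i l, χ (OdpLib.pd b l (Φ i)) + Db i c * (∑ a, G a * χ (OdpLib.pd b l (Φ a))) +
        (∑ m, (∑ a, (F a + c * G a) * χ (OdpLib.pd b m (OdpLib.pd b l (Φ a)))) * Db i (χ (z m))) = 0 := by
  classical
  have gen : ∀ i (f : Fin N → A), ∑ a, (F a + c * G a) * χ (f a) = 0 →
      χ (f i) + Db i c * (∑ a, G a * χ (f a)) +
        (∑ m, (∑ a, (F a + c * G a) * χ (OdpLib.pd b m (f a))) * Db i (χ (z m))) = 0 := by
    intro i f hf
    have h := congrArg (Db i) hf
    rw [map_zero, map_sum] at h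
    have e : ∀ a, Db i ((F a + c * G a) * χ (f a)) = (if a = i then χ (f a) else 0) + Db i c * (G a * χ (f a)) +
        ∑ m, (F a + c * G a) * χ (OdpLib.pd b m (f a)) * Db i (χ (z m)) := by
      intro a
      rw [Derivation.leibniz, map_add, Derivation.leibniz, hF, hG, chain z b hb χ (Db i) (f a)]
      simp only [smul_eq_mul, mul_zero, zero_add, Finset.mul_sum, mul_assoc]
      split_ifs <;> ring
    simp only [e, Finset.sum_add_distrib, Finset.sum_ite_eq', Finset.mem_univ, if_true, ← Finset.mul_sum] at h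
    rw [Finset.sum_comm] at h
    simp only [← Finset.sum_mul] at h
    exact h
  refine ⟨fun i => ?_, fun i l => gen i _ (h1 l)⟩
  have := gen i Φ h0
  simpa only [h1, zero_mul, Finset.sum_const_zero, add_zero] using this

/-- At the generic pencil no singular point of a member is degenerate. -/
theorem not_degenerate (hb : ∀ l, b l = D k A (z l)) {L : Type u} [Field L] [Algebra k L] (χ : A →ₐ[k] L)
    (Φ : Fin N → A) (e : Fin N → k) (he : ∑ a, e a • Φ a = 1)
    (hgen : ∀ v : Fin n → L, (∀ a, ∑ l, v l * χ (OdpLib.pd b l (Φ a)) = 0) → v = 0)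
    (c : L) (F G : Fin N → L) (Db : Fin N → Derivation k L L) (hF : ∀ i a, Db i (F a) = if a = i then 1 else 0)
    (hG : ∀ i a, Db i (G a) = 0) (h0 : ∑ a, (F a + c * G a) * χ (Φ a) = 0)
    (h1 : ∀ l, ∑ a, (F a + c * G a) * χ (OdpLib.pd b l (Φ a)) = 0) :
    Matrix.det (fun i l => ∑ a, (F a + c * G a) * χ (OdpLib.pd b i (OdpLib.pd b l (Φ a)))) ≠ 0 := by
  classical
  intro hdet
  obtain ⟨v, hv, hMv⟩ := Matrix.exists_mulVec_eq_zero_iff.2 hdet
  obtain ⟨k0, k1⟩ := key z b hb χ Φ c F G Db hF hG h0 h1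
  let Gq : L := ∑ a, G a * χ (Φ a)
  let γ : L := ∑ i, algebraMap k L (e i) * Db i c
  have hγ : γ * Gq = -1 := by
    have hone : ∑ i, algebraMap k L (e i) * χ (Φ i) = 1 := by
      rw [← map_one χ, ← he, map_sum]
      exact Finset.sum_congr rfl fun i _ => by rw [map_smul, Algebra.smul_def]
    rw [← hone, Finset.sum_mul, ← Finset.sum_neg_distrib]
    exact Finset.sum_congr rfl fun i _ => by linear_combination algebraMap k L (e i) * k0 i
  let W : Fin N → L := fun a => ∑ l, v l * χ (OdpLib.pd b l (Φ a))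
  let K : L := ∑ l, v l * ∑ a, G a * χ (OdpLib.pd b l (Φ a))
  have hW : ∀ i, W i + Db i c * K = 0 := by
    intro i
    have hs : ∑ l, v l * (χ (OdpLib.pd b l (Φ i)) + Db i c * (∑ a, G a * χ (OdpLib.pd b l (Φ a))) +
        (∑ m, (∑ a, (F a + c * G a) * χ (OdpLib.pd b m (OdpLib.pd b l (Φ a)))) * Db i (χ (z m)))) = 0 :=
      Finset.sum_eq_zero fun l _ => by rw [k1 i l, mul_zero]
    simp only [mul_add (v _), Finset.sum_add_distrib] at hs
    have hz : ∑ l, v l * ∑ m, (∑ a, (F a + c * G a) * χ (OdpLib.pd b m (OdpLib.pd b l (Φ a)))) * Db i (χ (z m)) = 0 := by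
      rw [Finset.sum_congr rfl fun l (_ : l ∈ Finset.univ) => Finset.mul_sum Finset.univ _ (v l)]
      rw [Finset.sum_comm]
      refine Finset.sum_eq_zero fun m _ => ?_
      have hm : ∑ l, (∑ a, (F a + c * G a) * χ (OdpLib.pd b m (OdpLib.pd b l (Φ a)))) * v l = 0 := congrFun hMv m
      rw [← zero_mul (Db i (χ (z m))), ← hm, Finset.sum_mul]
      exact Finset.sum_congr rfl fun l _ => by ring
    rw [hz, add_zero] at hs
    have e' : ∑ l, v l * (Db i c * ∑ a, G a * χ (OdpLib.pd b l (Φ a))) = Db i c * K := by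
      simp only [K, Finset.mul_sum]
      exact Finset.sum_congr rfl fun l _ => Finset.sum_congr rfl fun a _ => by ring
    rw [e'] at hs
    exact hs
  have hK : K = 0 := by
    have hzero : ∑ i, algebraMap k L (e i) * W i = 0 := by
      have h1' : ∀ l, ∑ i, algebraMap k L (e i) * χ (OdpLib.pd b l (Φ i)) = 0 := fun l => by
        have := congrArg (fun t => χ (OdpLib.pd b l t)) he
        simpa [Derivation.map_smul, Algebra.smul_def (A := L)] using this
      simp only [W, Finset.mul_sum]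
      rw [Finset.sum_comm]
      exact Finset.sum_eq_zero fun l _ => by
        rw [← mul_zero (v l), ← h1' l, Finset.mul_sum]
        exact Finset.sum_congr rfl fun a _ => by ring
    have : γ * K = 0 := by
      rw [← neg_eq_zero, ← hzero, Finset.sum_mul, ← Finset.sum_neg_distrib]
      exact Finset.sum_congr rfl fun i _ => by linear_combination -algebraMap k L (e i) * hW i
    exact (mul_eq_zero.1 this).resolve_left fun h => by simp [h] at hγ
  exact hv (hgen v fun a => by simpa [hK] using hW a)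

/-- At the generic pencil two singular points of a member are proportional on all forms. -/
theorem proportional (hb : ∀ l, b l = D k A (z l)) {A' : Type u} [CommRing A'] [Algebra k A'] (z' : Fin n → A')
    (b' : Basis (Fin n) A' Ω[A'⁄k]) (hb' : ∀ l, b' l = D k A' (z' l))
    {L : Type u} [Field L] [Algebra k L] (χ : A →ₐ[k] L) (χ' : A' →ₐ[k] L)
    (Φ : Fin N → A) (Φ' : Fin N → A')
    (c : L) (F G : Fin N → L) (Db : Fin N → Derivation k L L) (hF : ∀ i a, Db i (F a) = if a = i then 1 else 0)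
    (hG : ∀ i a, Db i (G a) = 0) (h0 : ∑ a, (F a + c * G a) * χ (Φ a) = 0)
    (h1 : ∀ l, ∑ a, (F a + c * G a) * χ (OdpLib.pd b l (Φ a)) = 0) (h0' : ∑ a, (F a + c * G a) * χ' (Φ' a) = 0)
    (h1' : ∀ l, ∑ a, (F a + c * G a) * χ' (OdpLib.pd b' l (Φ' a)) = 0) (i i' : Fin N) :
    χ (Φ i) * χ' (Φ' i') - χ (Φ i') * χ' (Φ' i) = 0 := by
  obtain ⟨k0, -⟩ := key z b hb χ Φ c F G Db hF hG h0 h1
  obtain ⟨k0', -⟩ := key z' b' hb' χ' Φ' c F G Db hF hG h0' h1'
  rw [eq_neg_of_add_eq_zero_left (k0 i), eq_neg_of_add_eq_zero_left (k0 i'), eq_neg_of_add_eq_zero_left (k0' i),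
    eq_neg_of_add_eq_zero_left (k0' i')]
  ring

end Groth.Agent.PencilLib.CharZero
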